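import Groth.Prelude.Def_SixF1
import Groth.Agent.EtPullExact.Basic
import Groth.Agent.KInj.Adjunction
import Groth.Agent.KInj.Existence
import Groth.Agent.SiteCoh.KInj
import Mathlib

/-!
`EtSix.compMap` is an isomorphism.
-/

set_option autoImplicit false
set_option backward.isDefEq.respectTransparency false
set_option backward.isDefEq.respectTransparency.types false
set_option linter.style.haveILetI false

universe u

open CategoryTheory CategoryTheory.Limits AlgebraicGeometry

namespace Groth.Agent.RPlusComp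

attribute [local instance] HasDerivedCategory.standard

theorem isKInjective_push {X Y : Scheme.{u}} (f : X ⟶ Y) (I : CochainComplex (EtCoh.Ab X) ℤ)
    [I.IsKInjective] :
    CochainComplex.IsKInjective (((EtCoh.push f).mapHomologicalComplex (ComplexShape.up ℤ)).obj I) := by
  have := EtPullExact.pull_preservesFiniteLimits f
  exact SiteCoh.isKInjective_of_adjunction (EtCoh.pullPushAdj f) I

theorem hKinj (X : Scheme.{u}) (K : CochainComplex (EtCoh.Ab X) ℤ) :
    ∃ (I : CochainComplex (EtCoh.Ab X) ℤ) (f : K ⟶ I), I.IsKInjective ∧ QuasiIso f := by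
  obtain ⟨I, f, h1, h2, -⟩ := KInj.exists_kInjective K
  exact ⟨I, f, h1, h2⟩

theorem isIso_totalRightDerivedUnit {X Y : Scheme.{u}} (f : X ⟶ Y) [DCoh.HasRpushEt X f]
    (K : HomotopyCategory (EtCoh.Ab X) (ComplexShape.up ℤ)) (hK : CochainComplex.IsKInjective K.as) :
    IsIso (((DCoh.pushEtKh X f).totalRightDerivedUnit DerivedCategory.Qh
      (HomotopyCategory.quasiIso (EtCoh.Ab X) (ComplexShape.up ℤ))).app K) :=
  (KInj.isDeforming_Qh (hKinj X) (DCoh.pushEtKh X f)).isIso_app
    (HomotopyCategory.quasiIso (EtCoh.Ab X) (ComplexShape.up ℤ)) _ _ hK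

theorem isIso_compMap {X Y Z : Scheme.{u}} (f : X ⟶ Y) (g : Y ⟶ Z)
    [DCoh.HasRpushEt X f] [DCoh.HasRpushEt Y g] [DCoh.HasRpushEt X (f ≫ g)] :
    IsIso (EtSix.compMap f g) := by
  rw [NatTrans.isIso_iff_isIso_app]
  intro D
  obtain ⟨I, hI, ⟨e⟩⟩ := (KInj.isDeforming_Qh (hKinj X) (DCoh.pushEtKh X f)).res D
  refine (NatTrans.isIso_app_iff_of_iso (EtSix.compMap f g) e).2 ?_
  have hfac := Functor.rightDerived_fac_app (DCoh.RpushEt X (f ≫ g))
    ((DCoh.pushEtKh X (f ≫ g)).totalRightDerivedUnit DerivedCategory.Qh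
      (HomotopyCategory.quasiIso (EtCoh.Ab X) (ComplexShape.up ℤ)))
    (HomotopyCategory.quasiIso (EtCoh.Ab X) (ComplexShape.up ℤ))
    (DCoh.RpushEt X f ⋙ DCoh.RpushEt Y g) (EtSix.compUnit f g) I
  haveI := isIso_totalRightDerivedUnit (f ≫ g) I hI
  haveI := isIso_totalRightDerivedUnit f I hI
  haveI : CochainComplex.IsKInjective I.as := hI
  haveI := isIso_totalRightDerivedUnit g
    (((EtCoh.push f).mapHomotopyCategory (ComplexShape.up ℤ)).obj I) (isKInjective_push f I.as)
  haveI : IsIso (NatTrans.mapHomotopyCategory (EtCoh.pushComp g f).inv (ComplexShape.up ℤ)) := by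
    refine ⟨⟨NatTrans.mapHomotopyCategory (EtCoh.pushComp g f).hom _, ?_, ?_⟩⟩ <;>
      rw [← NatTrans.mapHomotopyCategory_comp] <;> simp
  haveI : IsIso ((EtSix.compUnit f g).app I) := by
    dsimp [EtSix.compUnit]
    infer_instance
  exact IsIso.of_isIso_fac_left hfac

end Groth.Agent.RPlusComp
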