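import Groth.Prelude.Def_SiteColimFix
import Mathlib.CategoryTheory.Functor.Flat
import Mathlib.CategoryTheory.Sites.Pullback
import Mathlib.CategoryTheory.Limits.Final
import Mathlib.CategoryTheory.Category.ULift
import Mathlib.Algebra.Category.ModuleCat.AB
import Mathlib.Algebra.Category.ModuleCat.Colimits
import Mathlib

/-!
Left Kan extension along a flat functor between large-object, small-hom categories is left exact
for presheaves of modules one universe up.
-/

set_option autoImplicit false
set_option backward.isDefEq.respectTransparency false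
set_option backward.defeqAttrib.useBackward true

universe u

open CategoryTheory Limits Opposite

namespace Groth.Agent.RPlusComp.ModLan

noncomputable section

variable (Λ : Type (u + 1)) [CommRing Λ]

/-- Enlarge the hom universe. -/
def liftEquiv (J : Type (u + 1)) [Category.{u} J] : J ≌ ULiftHom.{u + 1} J := ULiftHom.equiv

instance hasColimitsOfShape_large {J : Type (u + 1)} [Category.{u} J] :
    HasColimitsOfShape J (ModuleCat.{u + 1} Λ) :=
  hasColimitsOfShape_of_equivalence (liftEquiv J).symm

lemma colim_preservesFiniteLimits (J : Type (u + 1)) [Category.{u} J] [IsFiltered J] :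
    PreservesFiniteLimits (colim : (J ⥤ (ModuleCat.{u + 1} Λ)) ⥤ (ModuleCat.{u + 1} Λ)) := by
  let e := liftEquiv J
  have : IsFiltered (ULiftHom.{u + 1} J) := IsFiltered.of_equivalence e
  have : PreservesFiniteLimits ((Functor.whiskeringLeft _ _ (ModuleCat.{u + 1} Λ)).obj e.inverse ⋙
      (colim : (ULiftHom.{u + 1} J ⥤ (ModuleCat.{u + 1} Λ)) ⥤ _)) :=
    comp_preservesFiniteLimits _ _
  exact preservesFiniteLimits_of_natIso (Functor.Final.colimIso (E := (ModuleCat.{u + 1} Λ)) e.inverse)

variable {C D : Type (u + 1)} [Category.{u} C] [Category.{u} D]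


instance hasLeftKanExtension_large (F : C ⥤ D) (G : Cᵒᵖ ⥤ (ModuleCat.{u + 1} Λ)) : F.op.HasLeftKanExtension G :=
  inferInstance

/-- Pointwise description of `lan`. -/
def lanEvalIso (F : C ⥤ D) (X : D) :
    (F.lan : (C ⥤ (ModuleCat.{u + 1} Λ)) ⥤ _) ⋙ (evaluation D (ModuleCat.{u + 1} Λ)).obj X ≅
      (Functor.whiskeringLeft _ _ (ModuleCat.{u + 1} Λ)).obj (CostructuredArrow.proj F X) ⋙ colim :=
  NatIso.ofComponents (fun G =>
    IsColimit.coconePointUniqueUpToIso
    (Functor.isPointwiseLeftKanExtensionLeftKanExtensionUnit F G X)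
    (colimit.isColimit _)) (fun {G₁ G₂} φ => by
      apply (Functor.isPointwiseLeftKanExtensionLeftKanExtensionUnit F G₁ X).hom_ext
      intro T
      have h₁ := fun (G : C ⥤ (ModuleCat.{u + 1} Λ)) => IsColimit.comp_coconePointUniqueUpToIso_hom
        (Functor.isPointwiseLeftKanExtensionLeftKanExtensionUnit F G X) (colimit.isColimit _) T
      have h₂ := congr_app (F.lanUnit.naturality φ) T.left
      dsimp at h₁ h₂ ⊢
      simp only [Category.assoc] at h₁ ⊢
      simp only [Functor.lan, Functor.lanUnit] at h₂ ⊢
      rw [reassoc_of% h₁, NatTrans.naturality_assoc, ← reassoc_of% h₂, h₁,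
        ι_colimMap, Functor.whiskerLeft_app]
      rfl)

/-- `lan` along a flat functor is left exact. -/
theorem lan_preservesFiniteLimits (F : C ⥤ D) [RepresentablyFlat F] :
    PreservesFiniteLimits (F.op.lan : (Cᵒᵖ ⥤ (ModuleCat.{u + 1} Λ)) ⥤ Dᵒᵖ ⥤ (ModuleCat.{u + 1} Λ)) := by
  refine ⟨fun J _ _ => ?_⟩
  apply preservesLimitsOfShape_of_evaluation
  intro K
  have : IsFiltered (CostructuredArrow F.op K) :=
    IsFiltered.of_equivalence (structuredArrowOpEquivalence F (unop K))
  have := colim_preservesFiniteLimits Λ (CostructuredArrow F.op K)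
  exact preservesLimitsOfShape_of_natIso (lanEvalIso Λ F.op K).symm

/-- The sheaf pullback along a flat continuous functor is left exact. -/
theorem sheafPullback_preservesFiniteLimits (F : C ⥤ D) [RepresentablyFlat F]
    (J : GrothendieckTopology C) (K : GrothendieckTopology D) [F.IsContinuous J K]
    [HasSheafify K (ModuleCat.{u + 1} Λ)] [HasSheafify J (ModuleCat.{u + 1} Λ)] :
    PreservesFiniteLimits (F.sheafPullback (ModuleCat.{u + 1} Λ) J K) := by
  have := lan_preservesFiniteLimits Λ F
  exact Functor.sheafPullbackConstruction.preservesFiniteLimits F (ModuleCat.{u + 1} Λ) J K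

end

end Groth.Agent.RPlusComp.ModLan
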