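import Groth.Agent.RPlusComp.Basic
import Groth.Agent.RPlusComp.ModLan
import Groth.Agent.EtPullExact.Basic

/-!
Inverse image of etale sheaves of modules is left exact; direct image preserves injectives.
-/

set_option autoImplicit false
set_option backward.isDefEq.respectTransparency false

universe u

open CategoryTheory CategoryTheory.Limits AlgebraicGeometry

namespace Groth.Agent.RPlusComp

variable (Λ : Type (u + 1)) [CommRing Λ]

theorem pullMod_preservesFiniteLimits {X Y : Scheme.{u}} (f : X ⟶ Y) :
    PreservesFiniteLimits (EtModW.pull Λ f) := by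
  have := EtPullExact.bc_preservesFiniteLimits f
  have : RepresentablyFlat (EtCoh.bc f) := flat_of_preservesFiniteLimits _
  exact ModLan.sheafPullback_preservesFiniteLimits Λ _ _ _

theorem pushMod_injective {X Y : Scheme.{u}} (f : X ⟶ Y) (I : EtModW.Mod Λ X) [Injective I] :
    Injective ((EtModW.push Λ f).obj I) := by
  have := pullMod_preservesFiniteLimits Λ f
  have : (EtModW.pull Λ f).PreservesMonomorphisms := inferInstance
  exact Injective.injective_of_adjoint (EtSix.pullPushModAdj Λ f) I

attribute [local instance] HasDerivedCategory.standard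

theorem isIso_compMapMod {X Y Z : Scheme.{u}} (f : X ⟶ Y) (g : Y ⟶ Z) :
    IsIso (EtSix.compMapMod Λ f g) :=
  isIso_rPlusDesc₂ (fun I _ => pushMod_injective Λ f I) _

end Groth.Agent.RPlusComp
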