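import Groth.Agent.RPlusComp.Etale
import Groth.Agent.KInj.Adjunction
import Mathlib

/-!
Adjunction between bounded below derived functors when the left adjoint is exact.
-/

set_option autoImplicit false
set_option backward.isDefEq.respectTransparency false
set_option backward.isDefEq.respectTransparency.types false
set_option linter.style.haveILetI false

universe v₁ v₂ u₁ u₂

open CategoryTheory CategoryTheory.Limits

namespace Groth.Agent.RPlusComp

attribute [local instance] HasDerivedCategory.standard

variable {A : Type u₁} [Category.{v₁} A] [Abelian A] {B : Type u₂} [Category.{v₂} B] [Abelian B]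
  [EnoughInjectives A] [EnoughInjectives B]

theorem nonempty_adjPlus {F : A ⥤ B} {G : B ⥤ A} (adj : F ⊣ G) [F.Additive] [G.Additive]
    [PreservesFiniteLimits F] [PreservesFiniteColimits F] :
    Nonempty (F.rightDerivedFunctorPlus ⊣ G.rightDerivedFunctorPlus) := by
  let adjK : F.mapHomotopyCategoryPlus ⊣ G.mapHomotopyCategoryPlus :=
    (KInj.mapHomotopyCategoryAdj adj (ComplexShape.up ℤ)).restrictFullyFaithful
      (HomotopyCategory.plus A).fullyFaithfulι (HomotopyCategory.plus B).fullyFaithfulι
      (Iso.refl _) (Iso.refl _)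
  have hinv : (HomotopyCategory.Plus.quasiIso A).IsInvertedBy
      (F.mapHomotopyCategoryPlus ⋙ DerivedCategory.Plus.Qh) := fun K L f hf => by
    haveI : IsIso (DerivedCategory.Qh.map f.hom) :=
      Localization.inverts DerivedCategory.Qh (HomotopyCategory.quasiIso A (ComplexShape.up ℤ)) _ hf
    rw [← isIso_iff_of_reflects_iso _ DerivedCategory.Plus.ι]
    show IsIso ((F.mapHomotopyCategory (ComplexShape.up ℤ) ⋙ DerivedCategory.Qh).map f.hom)
    rw [← NatIso.isIso_map_iff F.mapDerivedCategoryFactorsh f.hom]
    exact Functor.map_isIso F.mapDerivedCategory _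
  haveI : IsIso F.rightDerivedFunctorPlusUnit :=
    (Functor.isRightDerivedFunctor_iff_of_inverts F.rightDerivedFunctorPlus F.rightDerivedFunctorPlusUnit hinv).1
      inferInstance
  refine KInj.nonempty_derived_adjunction adjK (HomotopyCategory.Plus.quasiIso A)
    (HomotopyCategory.Plus.quasiIso B) (asIso F.rightDerivedFunctorPlusUnit).symm
    G.rightDerivedFunctorPlusUnit (P := fun K => CochainComplex.IsKInjective K.1.as) ?_
  exact
    { surj := fun {X I} hI => (DerivedCategory.Plus.Qh_map_bijective_of_isKInjective X I hI).2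
      wd := fun {X I} f g hI e =>
        congrArg _ ((DerivedCategory.Plus.Qh_map_bijective_of_isKInjective X I hI).1 e)
      res := fun D => by
        obtain ⟨n, hn⟩ := D.property
        haveI : D.IsGE n := (D.isGE_ι_obj_iff n).1 hn
        obtain ⟨L, _, ⟨e⟩⟩ := DerivedCategory.Plus.exists_injective_nonempty_iso D n
        exact ⟨(HomotopyCategory.Plus.quotient B).obj ((InjectiveObject.ι B).mapCochainComplexPlus.obj L),
          inferInstanceAs (CochainComplex.IsKInjective
            (((InjectiveObject.ι B).mapHomologicalComplex (ComplexShape.up ℤ)).obj L.obj)),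
          ⟨e.symm⟩⟩ }

open AlgebraicGeometry in
theorem nonempty_pullPlus_adj (Λ : Type (u₁ + 1)) [CommRing Λ] {Y Y' : Scheme.{u₁}} (g : Y' ⟶ Y) :
    Nonempty ((EtModW.pull Λ g).rightDerivedFunctorPlus ⊣ (EtModW.push Λ g).rightDerivedFunctorPlus) := by
  have := pullMod_preservesFiniteLimits Λ g
  have := (EtSix.pullPushModAdj Λ g).isLeftAdjoint
  exact nonempty_adjPlus (EtSix.pullPushModAdj Λ g)

end Groth.Agent.RPlusComp
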