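import Groth.Prelude.Def_SixF1
import Mathlib

/-!
`EtSix.rPlusDesc₂` is an isomorphism when the first functor preserves injectives.
-/

set_option autoImplicit false
set_option backward.isDefEq.respectTransparency false
set_option backward.isDefEq.respectTransparency.types false
set_option linter.style.haveILetI false

universe v₁ v₂ v₃ u₁ u₂ u₃

open CategoryTheory CategoryTheory.Limits

namespace Groth.Agent.RPlusComp

attribute [local instance] HasDerivedCategory.standard

variable {A : Type u₁} [Category.{v₁} A] [Abelian A] {B : Type u₂} [Category.{v₂} B] [Abelian B]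
  {C : Type u₃} [Category.{v₃} C] [Abelian C]
  [EnoughInjectives A] [EnoughInjectives B]

theorem isIso_rPlusDesc₂ {F : A ⥤ B} {G : B ⥤ C} {H : A ⥤ C} [F.Additive] [G.Additive] [H.Additive]
    (hF : ∀ X : A, Injective X → Injective (F.obj X)) (θ : H ⟶ F ⋙ G) [IsIso θ] :
    IsIso (EtSix.rPlusDesc₂ θ) := by
  haveI hp : IsIso (EtSix.plusNatTrans θ) := by
    haveI : IsIso (NatTrans.mapHomotopyCategory θ (ComplexShape.up ℤ)) := by
      refine ⟨⟨NatTrans.mapHomotopyCategory (inv θ) _, ?_, ?_⟩⟩ <;>
        rw [← NatTrans.mapHomotopyCategory_comp] <;> simp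
    let W := (Functor.whiskeringRight (HomotopyCategory.Plus A) _ _).obj (HomotopyCategory.plus C).ι
    let ff : W.FullyFaithful := (HomotopyCategory.plus C).fullyFaithfulι.whiskeringRight _
    haveI : IsIso (W.map (EtSix.plusNatTrans θ)) := by
      rw [show W.map (EtSix.plusNatTrans θ) = Functor.whiskerLeft (HomotopyCategory.Plus.ι A)
        (NatTrans.mapHomotopyCategory θ (ComplexShape.up ℤ)) from ff.map_preimage _]
      exact inferInstanceAs (IsIso (((Functor.whiskeringLeft _ _ _).obj (HomotopyCategory.Plus.ι A)).map _))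
    exact ff.isIso_of_isIso_map _
  rw [NatTrans.isIso_iff_isIso_app]
  intro D
  obtain ⟨n, hn⟩ : ∃ n : ℤ, D.IsGE n := by
    obtain ⟨n, hn⟩ := D.property
    exact ⟨n, (D.isGE_ι_obj_iff n).1 hn⟩
  obtain ⟨L, _, ⟨e⟩⟩ := DerivedCategory.Plus.exists_injective_nonempty_iso D n
  let K := (HomotopyCategory.Plus.quotient A).obj ((InjectiveObject.ι A).mapCochainComplexPlus.obj L)
  let e' : DerivedCategory.Plus.Qh.obj K ≅ D := e
  refine (NatTrans.isIso_app_iff_of_iso (EtSix.rPlusDesc₂ θ) e').1 ?_
  have hfac : H.rightDerivedFunctorPlusUnit.app K ≫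
      (EtSix.rPlusDesc₂ θ).app (DerivedCategory.Plus.Qh.obj K) = (EtSix.rPlusUnit₂ θ).app K :=
    Functor.rightDerived_fac_app _ _ _ _ _ _
  haveI : IsIso (H.rightDerivedFunctorPlusUnit.app K) := inferInstanceAs (IsIso
    (H.rightDerivedFunctorPlusUnit.app ((HomotopyCategory.Plus.quotient A).obj
      ((InjectiveObject.ι A).mapCochainComplexPlus.obj L))))
  haveI hFK : IsIso (F.rightDerivedFunctorPlusUnit.app K) := inferInstanceAs (IsIso
    (F.rightDerivedFunctorPlusUnit.app ((HomotopyCategory.Plus.quotient A).obj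
      ((InjectiveObject.ι A).mapCochainComplexPlus.obj L))))
  haveI hGK : IsIso (G.rightDerivedFunctorPlusUnit.app (F.mapHomotopyCategoryPlus.obj K)) := by
    let M : CochainComplex A ℤ := ((InjectiveObject.ι A).mapHomologicalComplex (.up ℤ)).obj L.obj
    let N : CochainComplex B ℤ := (F.mapHomologicalComplex (.up ℤ)).obj M
    let N' : CochainComplex (InjectiveObject B) ℤ :=
      HomologicalComplex.liftObjectProperty _ N fun i => hF _ (L.obj.X i).property
    obtain ⟨m, hm⟩ := (F.mapCochainComplexPlus.obj ((InjectiveObject.ι A).mapCochainComplexPlus.obj L)).property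
    haveI : N.IsStrictlyGE m := hm
    have hN' : N'.IsStrictlyGE m := by
      rwa [← CochainComplex.isStrictlyGE_mapHomologicalComplex_obj_iff _ (InjectiveObject.ι _)]
    let i : F.mapHomotopyCategoryPlus.obj K ≅
        (HomotopyCategory.Plus.quotient B).obj ((InjectiveObject.ι B).mapCochainComplexPlus.obj ⟨N', m, hN'⟩) :=
      ObjectProperty.isoMk _ (Iso.refl _)
    refine (NatTrans.isIso_app_iff_of_iso G.rightDerivedFunctorPlusUnit i).2 ?_
    infer_instance
  haveI : IsIso ((EtSix.rPlusUnit₂ θ).app K) := by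
    dsimp [EtSix.rPlusUnit₂]
    infer_instance
  exact IsIso.of_isIso_fac_left hfac

end Groth.Agent.RPlusComp
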